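import Cfsg.Agent.Spor.J4X.D0

set_option autoImplicit false
set_option maxRecDepth 100000000
set_option Elab.async false

namespace Cfsg.Agent.Spor.J4X

theorem ok0 : Net.okb 11 n0 = true := by decide +kernel

theorem ok1 : Net.okb 11 n1 = true := by decide +kernel

theorem ok2 : Net.okb 11 n2 = true := by decide +kernel

theorem rel0 : T.rel 11 [5, 1, 2, 3, 4] 0 11 = true := by decide +kernel

theorem rel1 : T.rel 11 [1, 1, 1, 1, 1, 1, 1, 1, 1, 1, 1] 0 11 = true := by decide +kernel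

theorem rel2 : T.rel 11 [2, 2, 2, 2, 2, 2, 2, 2, 2, 2, 2] 0 11 = true := by decide +kernel

theorem rel3 : T.rel 11 [5, 5, 5, 5, 5, 5, 5, 5, 5, 5, 5] 0 11 = true := by decide +kernel

theorem rel4 : T.rel 11 [5, 1, 6, 3] 0 11 = true := by decide +kernel

theorem rel5 : T.rel 11 [5, 2, 6, 4] 0 11 = true := by decide +kernel

theorem hcov : T.treeCov (ones 1331) L 1 = true := by decide +kernel

theorem hg : lall (fun z => band (memL L z) (band (sub (ones 1331) (T.let z).cl) (T.closed (ones 1331) z))) gs = true := by decide +kernel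

theorem rot1_1 : T.rot 1 [3] (sel (ones 1331) ip1 1) = true := by decide +kernel

theorem rot1_1r : band (Rule.ok (2 * 0) EX RL ⟨1 :: [3], [], 5, false⟩) (lall (memL L) [3]) = true := by decide +kernel

theorem rot1_2 : T.rot 1 [6, 3, 5] (sel (ones 1331) ip1 2) = true := by decide +kernel

theorem rot1_2r : band (Rule.ok (2 * 0) EX RL ⟨1 :: [6, 3, 5], [3, 1, 2, 0], 3, true⟩) (lall (memL L) [6, 3, 5]) = true := by decide +kernel

theorem rot1_3 : T.rot 1 [5, 3, 6] (sel (ones 1331) ip1 3) = true := by decide +kernel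

theorem rot1_3r : band (Rule.ok (2 * 0) EX RL ⟨1 :: [5, 3, 6], [], 3, false⟩) (lall (memL L) [5, 3, 6]) = true := by decide +kernel

theorem rot1_4 : T.rot 1 [4, 3, 6, 2] (sel (ones 1331) ip1 4) = true := by decide +kernel

theorem rot1_4r : band (Rule.ok (2 * 0) EX RL ⟨1 :: [4, 3, 6, 2], [], 5, false⟩) (lall (memL L) [4, 3, 6, 2]) = true := by decide +kernel

theorem rot1_5 : T.rot 1 [2, 3, 4, 5] (sel (ones 1331) ip1 5) = true := by decide +kernel

theorem rot1_5r : band (Rule.ok (2 * 0) EX RL ⟨1 :: [2, 3, 4, 5], [], 5, false⟩) (lall (memL L) [2, 3, 4, 5]) = true := by decide +kernel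

theorem rot1_6 : T.rot 1 [1, 1, 1, 1, 1, 1, 1, 1, 1, 1] (sel (ones 1331) ip1 6) = true := by decide +kernel

theorem rot1_6r : band (Rule.ok (2 * 0) EX RL ⟨1 :: [1, 1, 1, 1, 1, 1, 1, 1, 1, 1], [], 0, true⟩) (lall (memL L) [1, 1, 1, 1, 1, 1, 1, 1, 1, 1]) = true := by decide +kernel

theorem cov1 : T.cover 1 [(sel (ones 1331) ip1 1), (sel (ones 1331) ip1 2), (sel (ones 1331) ip1 3), (sel (ones 1331) ip1 4), (sel (ones 1331) ip1 5), (sel (ones 1331) ip1 6)] = true := by decide +kernel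

theorem tl1 : T.treeLt 11 1 = true := by decide +kernel

theorem rot2_1 : T.rot 2 [4] (sel (ones 1331) ip2 1) = true := by decide +kernel

theorem rot2_1r : band (Rule.ok (2 * 0) EX RL ⟨2 :: [4], [], 5, false⟩) (lall (memL L) [4]) = true := by decide +kernel

theorem rot2_2 : T.rot 2 [6, 4, 5] (sel (ones 1331) ip2 2) = true := by decide +kernel

theorem rot2_2r : band (Rule.ok (2 * 0) EX RL ⟨2 :: [6, 4, 5], [3, 1, 2, 0], 4, true⟩) (lall (memL L) [6, 4, 5]) = true := by decide +kernel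

theorem rot2_3 : T.rot 2 [5, 4, 6] (sel (ones 1331) ip2 3) = true := by decide +kernel

theorem rot2_3r : band (Rule.ok (2 * 0) EX RL ⟨2 :: [5, 4, 6], [], 4, false⟩) (lall (memL L) [5, 4, 6]) = true := by decide +kernel

theorem rot2_4 : T.rot 2 [1, 4, 3, 6] (sel (ones 1331) ip2 4) = true := by decide +kernel

theorem rot2_4r : band (Rule.ok (2 * 0) EX RL ⟨2 :: [1, 4, 3, 6], [], 5, false⟩) (lall (memL L) [1, 4, 3, 6]) = true := by decide +kernel

theorem rot2_5 : T.rot 2 [3, 4, 5, 1] (sel (ones 1331) ip2 5) = true := by decide +kernel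

theorem rot2_5r : band (Rule.ok (2 * 0) EX RL ⟨2 :: [3, 4, 5, 1], [], 5, false⟩) (lall (memL L) [3, 4, 5, 1]) = true := by decide +kernel

theorem rot2_6 : T.rot 2 [2, 2, 2, 2, 2, 2, 2, 2, 2, 2] (sel (ones 1331) ip2 6) = true := by decide +kernel

theorem rot2_6r : band (Rule.ok (2 * 0) EX RL ⟨2 :: [2, 2, 2, 2, 2, 2, 2, 2, 2, 2], [], 1, true⟩) (lall (memL L) [2, 2, 2, 2, 2, 2, 2, 2, 2, 2]) = true := by decide +kernel

theorem cov2 : T.cover 2 [(sel (ones 1331) ip2 1), (sel (ones 1331) ip2 2), (sel (ones 1331) ip2 3), (sel (ones 1331) ip2 4), (sel (ones 1331) ip2 5), (sel (ones 1331) ip2 6)] = true := by decide +kernel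

theorem tl2 : T.treeLt 11 2 = true := by decide +kernel

theorem rot3_1 : T.rot 3 [1] (sel (ones 1331) ip3 1) = true := by decide +kernel

theorem rot3_1r : band (Rule.ok (2 * 0) EX RL ⟨3 :: [1], [], 5, false⟩) (lall (memL L) [1]) = true := by decide +kernel

theorem rot3_2 : T.rot 3 [5, 1, 6] (sel (ones 1331) ip3 2) = true := by decide +kernel

theorem rot3_2r : band (Rule.ok (2 * 0) EX RL ⟨3 :: [5, 1, 6], [1], 3, true⟩) (lall (memL L) [5, 1, 6]) = true := by decide +kernel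

theorem rot3_3 : T.rot 3 [6, 1, 5] (sel (ones 1331) ip3 3) = true := by decide +kernel

theorem rot3_3r : band (Rule.ok (2 * 0) EX RL ⟨3 :: [6, 1, 5], [3, 1, 2], 3, false⟩) (lall (memL L) [6, 1, 5]) = true := by decide +kernel

theorem rot3_4 : T.rot 3 [6, 2, 1, 4] (sel (ones 1331) ip3 4) = true := by decide +kernel

theorem rot3_4r : band (Rule.ok (2 * 0) EX RL ⟨3 :: [6, 2, 1, 4], [], 5, false⟩) (lall (memL L) [6, 2, 1, 4]) = true := by decide +kernel

theorem rot3_5 : T.rot 3 [4, 5, 1, 2] (sel (ones 1331) ip3 5) = true := by decide +kernel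

theorem rot3_5r : band (Rule.ok (2 * 0) EX RL ⟨3 :: [4, 5, 1, 2], [], 5, false⟩) (lall (memL L) [4, 5, 1, 2]) = true := by decide +kernel

theorem rot3_6 : T.rot 3 [3, 3, 3, 3, 3, 3, 3, 3, 3, 3] (sel (ones 1331) ip3 6) = true := by decide +kernel

theorem rot3_6r : band (Rule.ok (2 * 0) EX RL ⟨3 :: [3, 3, 3, 3, 3, 3, 3, 3, 3, 3], [], 0, false⟩) (lall (memL L) [3, 3, 3, 3, 3, 3, 3, 3, 3, 3]) = true := by decide +kernel

theorem cov3 : T.cover 3 [(sel (ones 1331) ip3 1), (sel (ones 1331) ip3 2), (sel (ones 1331) ip3 3), (sel (ones 1331) ip3 4), (sel (ones 1331) ip3 5), (sel (ones 1331) ip3 6)] = true := by decide +kernel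

theorem tl3 : T.treeLt 11 3 = true := by decide +kernel

theorem rot4_1 : T.rot 4 [2] (sel (ones 1331) ip4 1) = true := by decide +kernel

theorem rot4_1r : band (Rule.ok (2 * 0) EX RL ⟨4 :: [2], [], 5, false⟩) (lall (memL L) [2]) = true := by decide +kernel

theorem rot4_2 : T.rot 4 [5, 2, 6] (sel (ones 1331) ip4 2) = true := by decide +kernel

theorem rot4_2r : band (Rule.ok (2 * 0) EX RL ⟨4 :: [5, 2, 6], [3], 4, true⟩) (lall (memL L) [5, 2, 6]) = true := by decide +kernel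

theorem rot4_3 : T.rot 4 [6, 2, 5] (sel (ones 1331) ip4 3) = true := by decide +kernel

theorem rot4_3r : band (Rule.ok (2 * 0) EX RL ⟨4 :: [6, 2, 5], [3, 1, 2, 0, 3], 4, false⟩) (lall (memL L) [6, 2, 5]) = true := by decide +kernel

theorem rot4_4 : T.rot 4 [3, 6, 2, 1] (sel (ones 1331) ip4 4) = true := by decide +kernel

theorem rot4_4r : band (Rule.ok (2 * 0) EX RL ⟨4 :: [3, 6, 2, 1], [], 5, false⟩) (lall (memL L) [3, 6, 2, 1]) = true := by decide +kernel

theorem rot4_5 : T.rot 4 [5, 1, 2, 3] (sel (ones 1331) ip4 5) = true := by decide +kernel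

theorem rot4_5r : band (Rule.ok (2 * 0) EX RL ⟨4 :: [5, 1, 2, 3], [], 5, false⟩) (lall (memL L) [5, 1, 2, 3]) = true := by decide +kernel

theorem rot4_6 : T.rot 4 [4, 4, 4, 4, 4, 4, 4, 4, 4, 4] (sel (ones 1331) ip4 6) = true := by decide +kernel

theorem rot4_6r : band (Rule.ok (2 * 0) EX RL ⟨4 :: [4, 4, 4, 4, 4, 4, 4, 4, 4, 4], [], 1, false⟩) (lall (memL L) [4, 4, 4, 4, 4, 4, 4, 4, 4, 4]) = true := by decide +kernel

theorem cov4 : T.cover 4 [(sel (ones 1331) ip4 1), (sel (ones 1331) ip4 2), (sel (ones 1331) ip4 3), (sel (ones 1331) ip4 4), (sel (ones 1331) ip4 5), (sel (ones 1331) ip4 6)] = true := by decide +kernel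

theorem tl4 : T.treeLt 11 4 = true := by decide +kernel

theorem rot5_1 : T.rot 5 [6] (sel (ones 1331) ip5 1) = true := by decide +kernel

theorem rot5_1r : band (Rule.ok (2 * 0) EX RL ⟨5 :: [6], [], 5, false⟩) (lall (memL L) [6]) = true := by decide +kernel

theorem rot5_2 : T.rot 5 [1, 6, 3] (sel (ones 1331) ip5 2) = true := by decide +kernel

theorem rot5_2r : band (Rule.ok (2 * 0) EX RL ⟨5 :: [1, 6, 3], [], 3, true⟩) (lall (memL L) [1, 6, 3]) = true := by decide +kernel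

theorem rot5_3 : T.rot 5 [3, 6, 1] (sel (ones 1331) ip5 3) = true := by decide +kernel

theorem rot5_3r : band (Rule.ok (2 * 0) EX RL ⟨5 :: [3, 6, 1], [1], 3, false⟩) (lall (memL L) [3, 6, 1]) = true := by decide +kernel

theorem rot5_4 : T.rot 5 [2, 6, 4] (sel (ones 1331) ip5 4) = true := by decide +kernel

theorem rot5_4r : band (Rule.ok (2 * 0) EX RL ⟨5 :: [2, 6, 4], [], 4, true⟩) (lall (memL L) [2, 6, 4]) = true := by decide +kernel

theorem rot5_5 : T.rot 5 [4, 6, 2] (sel (ones 1331) ip5 5) = true := by decide +kernel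

theorem rot5_5r : band (Rule.ok (2 * 0) EX RL ⟨5 :: [4, 6, 2], [3], 4, false⟩) (lall (memL L) [4, 6, 2]) = true := by decide +kernel

theorem rot5_6 : T.rot 5 [1, 2, 3, 4] (sel (ones 1331) ip5 6) = true := by decide +kernel

theorem rot5_6r : band (Rule.ok (2 * 0) EX RL ⟨5 :: [1, 2, 3, 4], [], 5, false⟩) (lall (memL L) [1, 2, 3, 4]) = true := by decide +kernel

theorem rot5_7 : T.rot 5 [5, 5, 5, 5, 5, 5, 5, 5, 5, 5] (sel (ones 1331) ip5 7) = true := by decide +kernel

theorem rot5_7r : band (Rule.ok (2 * 0) EX RL ⟨5 :: [5, 5, 5, 5, 5, 5, 5, 5, 5, 5], [], 2, true⟩) (lall (memL L) [5, 5, 5, 5, 5, 5, 5, 5, 5, 5]) = true := by decide +kernel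

theorem cov5 : T.cover 5 [(sel (ones 1331) ip5 1), (sel (ones 1331) ip5 2), (sel (ones 1331) ip5 3), (sel (ones 1331) ip5 4), (sel (ones 1331) ip5 5), (sel (ones 1331) ip5 6), (sel (ones 1331) ip5 7)] = true := by decide +kernel

theorem tl5 : Nat.beq (T.let 5).tt 0 = true := by decide +kernel

theorem rot6_1 : T.rot 6 [5] (sel (ones 1331) ip6 1) = true := by decide +kernel

theorem rot6_1r : band (Rule.ok (2 * 0) EX RL ⟨6 :: [5], [], 5, false⟩) (lall (memL L) [5]) = true := by decide +kernel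

theorem rot6_2 : T.rot 6 [3, 5, 1] (sel (ones 1331) ip6 2) = true := by decide +kernel

theorem rot6_2r : band (Rule.ok (2 * 0) EX RL ⟨6 :: [3, 5, 1], [3, 1, 2], 3, true⟩) (lall (memL L) [3, 5, 1]) = true := by decide +kernel

theorem rot6_3 : T.rot 6 [1, 5, 3] (sel (ones 1331) ip6 3) = true := by decide +kernel

theorem rot6_3r : band (Rule.ok (2 * 0) EX RL ⟨6 :: [1, 5, 3], [3, 1, 2, 0], 3, false⟩) (lall (memL L) [1, 5, 3]) = true := by decide +kernel

theorem rot6_4 : T.rot 6 [4, 5, 2] (sel (ones 1331) ip6 4) = true := by decide +kernel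

theorem rot6_4r : band (Rule.ok (2 * 0) EX RL ⟨6 :: [4, 5, 2], [3, 3, 1, 2, 0], 4, true⟩) (lall (memL L) [4, 5, 2]) = true := by decide +kernel

theorem rot6_5 : T.rot 6 [2, 5, 4] (sel (ones 1331) ip6 5) = true := by decide +kernel

theorem rot6_5r : band (Rule.ok (2 * 0) EX RL ⟨6 :: [2, 5, 4], [3, 1, 2, 0], 4, false⟩) (lall (memL L) [2, 5, 4]) = true := by decide +kernel

theorem rot6_6 : T.rot 6 [2, 1, 4, 3] (sel (ones 1331) ip6 6) = true := by decide +kernel

theorem rot6_6r : band (Rule.ok (2 * 0) EX RL ⟨6 :: [2, 1, 4, 3], [], 5, false⟩) (lall (memL L) [2, 1, 4, 3]) = true := by decide +kernel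

theorem rot6_7 : T.rot 6 [6, 6, 6, 6, 6, 6, 6, 6, 6, 6] (sel (ones 1331) ip6 7) = true := by decide +kernel

theorem rot6_7r : band (Rule.ok (2 * 0) EX RL ⟨6 :: [6, 6, 6, 6, 6, 6, 6, 6, 6, 6], [], 2, false⟩) (lall (memL L) [6, 6, 6, 6, 6, 6, 6, 6, 6, 6]) = true := by decide +kernel

theorem cov6 : T.cover 6 [(sel (ones 1331) ip6 1), (sel (ones 1331) ip6 2), (sel (ones 1331) ip6 3), (sel (ones 1331) ip6 4), (sel (ones 1331) ip6 5), (sel (ones 1331) ip6 6), (sel (ones 1331) ip6 7)] = true := by decide +kernel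

theorem tl6 : Nat.beq (T.let 6).tt 0 = true := by decide +kernel

end Cfsg.Agent.Spor.J4X
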